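import Groth.Prelude.Def_SixF1
import Groth.Agent.DerPlusAdjLib.Main

/-!
# Base change morphisms of bounded below derived functors
-/

set_option autoImplicit false
set_option linter.all false
set_option backward.isDefEq.respectTransparency false
set_option backward.isDefEq.respectTransparency.types false
set_option maxHeartbeats 1000000

open CategoryTheory CategoryTheory.Limits

noncomputable section

namespace BcPlusLib

universe v₁ v₂ v₃ v₄ u₁ u₂ u₃ u₄ w₁ w₂ w₃ w₄

theorem exists_symm_eq {C : Type*} [Category C] {D : Type*} [Category D] {G : C ⥤ D} {R : D ⥤ C} (adj adj' : G ⊣ R)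
    (A : C) : ∃ e : G.obj A ≅ G.obj A, ∀ {B : D} (φ : A ⟶ R.obj B),
      (adj.homEquiv A B).symm φ = e.hom ≫ (adj'.homEquiv A B).symm φ := by
  let r := (adj.leftAdjointUniq adj').app A
  refine ⟨r, fun {B} φ => ?_⟩
  apply (adj.homEquiv A B).injective
  rw [Equiv.apply_symm_apply, Adjunction.homEquiv_unit, Functor.map_comp]
  have h1 : adj.unit.app A ≫ R.map r.hom = adj'.unit.app A := Adjunction.unit_leftAdjointUniq_hom_app adj adj' A
  rw [← Category.assoc, h1, ← Adjunction.homEquiv_unit, Equiv.apply_symm_apply]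

variable {A : Type u₁} [Category.{v₁} A] [Abelian A] {B : Type u₂} [Category.{v₂} B] [Abelian B]
  {A' : Type u₃} [Category.{v₃} A'] [Abelian A'] {B' : Type u₄} [Category.{v₄} B'] [Abelian B']
  [HasDerivedCategory.{w₁} A] [HasDerivedCategory.{w₂} B] [HasDerivedCategory.{w₃} A'] [HasDerivedCategory.{w₄} B']
  [EnoughInjectives A] [EnoughInjectives B] [EnoughInjectives A'] [EnoughInjectives B']
  {P : A ⥤ B} {P' : A' ⥤ B'} {G' : A ⥤ A'} {G : B ⥤ B'} {R : B' ⥤ B}
  [P.Additive] [P'.Additive] [G'.Additive] [G.Additive] [R.Additive]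
  [PreservesFiniteLimits G] [PreservesFiniteColimits G] [PreservesFiniteLimits G'] [PreservesFiniteColimits G']
  (adj : G ⊣ R) (θ : P ⟶ G' ⋙ P' ⋙ R)

/-- The transpose of `θ` on a complex. -/
def kappa (K : CochainComplex A ℤ) :
    (G.mapHomologicalComplex _).obj ((P.mapHomologicalComplex _).obj K) ⟶
      (P'.mapHomologicalComplex _).obj ((G'.mapHomologicalComplex _).obj K) where
  f n := (adj.homEquiv _ _).symm (θ.app (K.X n))
  comm' i j _ := by
    show (adj.homEquiv _ _).symm (θ.app (K.X i)) ≫ P'.map (G'.map (K.d i j)) =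
      G.map (P.map (K.d i j)) ≫ (adj.homEquiv _ _).symm (θ.app (K.X j))
    rw [← adj.homEquiv_naturality_right_symm, ← adj.homEquiv_naturality_left_symm]
    exact congrArg _ (θ.naturality (K.d i j)).symm

/-- Base change on a complex computing both derived functors. -/
theorem isIso_transpose_desc (Dadj : G.rightDerivedFunctorPlus ⊣ R.rightDerivedFunctorPlus)
    (T : HomotopyCategory.Plus A) (hP : IsIso (P.rightDerivedFunctorPlusUnit.app T))
    (L : HomotopyCategory.Plus A') (j : (G'.mapHomologicalComplex _).obj T.obj.as ⟶ L.obj.as) (hj : QuasiIso j)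
    (hL : IsIso (P'.rightDerivedFunctorPlusUnit.app L))
    (h : QuasiIso (kappa adj θ T.obj.as ≫ (P'.mapHomologicalComplex _).map j)) :
    IsIso ((Dadj.homEquiv _ _).symm ((EtSix.rPlusDesc₃ θ).app (DerivedCategory.Plus.Qh.obj T))) := by
  haveI := DerPlusAdjLib.isIso_unit_of_exact (L := G)
  haveI := DerPlusAdjLib.isIso_unit_of_exact (L := G')
  haveI := hP
  haveI := hL
  let WA := HomotopyCategory.Plus.quasiIso B
  let WB := HomotopyCategory.Plus.quasiIso B'
  let e := (asIso G.rightDerivedFunctorPlusUnit).symm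
  let β := R.rightDerivedFunctorPlusUnit
  haveI : G.rightDerivedFunctorPlus.IsLeftDerivedFunctor e.hom WA :=
    Functor.isLeftDerivedFunctor_of_inverts WA _ e
  haveI : (G.rightDerivedFunctorPlus ⋙ R.rightDerivedFunctorPlus).IsLeftDerivedFunctor
      ((Functor.associator _ _ _).inv ≫ Functor.whiskerRight e.hom R.rightDerivedFunctorPlus) WA :=
    Functor.isLeftDerivedFunctor_of_inverts WA _
      ((Functor.associator _ _ _).symm ≪≫ Functor.isoWhiskerRight e R.rightDerivedFunctorPlus)
  haveI : (R.rightDerivedFunctorPlus ⋙ G.rightDerivedFunctorPlus).IsRightDerivedFunctor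
      (Functor.whiskerRight β G.rightDerivedFunctorPlus ≫ (Functor.associator _ _ _).hom) WB := by
    refine (HomotopyCategory.Plus.localizerMorphism_derives _).isRightDerivedFunctor_of_isIso _ fun X => ?_
    rw [NatTrans.comp_app, Functor.whiskerRight_app]
    infer_instance
  let Dc := (DerPlusAdjLib.mapPlusAdj adj).derived WA WB e.hom β
  obtain ⟨r, hr⟩ := exists_symm_eq Dadj Dc (P.rightDerivedFunctorPlus.obj (DerivedCategory.Plus.Qh.obj T))
  rw [hr]
  let Y := P'.mapHomotopyCategoryPlus.obj (G'.mapHomotopyCategoryPlus.obj T)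
  let k : P.mapHomotopyCategoryPlus.obj T ⟶ R.mapHomotopyCategoryPlus.obj Y :=
    (EtSix.plusNatTrans θ ≫ (Functor.mapHomotopyCategoryPlusCompIso (Iso.refl (G' ⋙ (P' ⋙ R)))).inv ≫
      Functor.whiskerLeft G'.mapHomotopyCategoryPlus
        (Functor.mapHomotopyCategoryPlusCompIso (Iso.refl (P' ⋙ R))).inv).app T
  let X := P'.rightDerivedFunctorPlusUnit.app (G'.mapHomotopyCategoryPlus.obj T) ≫
    P'.rightDerivedFunctorPlus.map (G'.rightDerivedFunctorPlusUnit.app T)
  have hd : P.rightDerivedFunctorPlusUnit.app T ≫ (EtSix.rPlusDesc₃ θ).app (DerivedCategory.Plus.Qh.obj T) =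
      DerivedCategory.Plus.Qh.map k ≫ β.app Y ≫ R.rightDerivedFunctorPlus.map X := by
    refine (Functor.rightDerived_fac_app _ P.rightDerivedFunctorPlusUnit (HomotopyCategory.Plus.quasiIso A) _
      (EtSix.rPlusUnit₃ θ) T).trans ?_
    simp [EtSix.rPlusUnit₃, k, β, X, Y]
  have hε : G.rightDerivedFunctorPlus.map (β.app Y) ≫ Dc.counit.app (DerivedCategory.Plus.Qh.obj Y) =
      e.hom.app (R.mapHomotopyCategoryPlus.obj Y) ≫
        DerivedCategory.Plus.Qh.map ((DerPlusAdjLib.mapPlusAdj adj).counit.app Y) :=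
    (DerPlusAdjLib.mapPlusAdj adj).derivedε_fac_app WB e.hom β Y
  let K0 := G.mapHomotopyCategoryPlus.map k ≫ (DerPlusAdjLib.mapPlusAdj adj).counit.app Y
  let jH : G'.mapHomotopyCategoryPlus.obj T ⟶ L :=
    ObjectProperty.homMk ((HomotopyCategory.quotient A' (ComplexShape.up ℤ)).map j)
  haveI : IsIso (DerivedCategory.Plus.Qh.map jH) :=
    Localization.inverts DerivedCategory.Plus.Qh (HomotopyCategory.Plus.quasiIso A') jH
      ((HomotopyCategory.quotient_map_mem_quasiIso_iff j).2 ((HomologicalComplex.mem_quasiIso_iff _).2 hj))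
  haveI hK : IsIso (DerivedCategory.Plus.Qh.map K0 ≫
      P'.rightDerivedFunctorPlusUnit.app (G'.mapHomotopyCategoryPlus.obj T)) := by
    have hq : (HomotopyCategory.Plus.ι B').map
        (G.mapHomotopyCategoryPlus.map k ≫ (DerPlusAdjLib.mapPlusAdj adj).counit.app Y) =
        (HomotopyCategory.quotient B' (ComplexShape.up ℤ)).map (kappa adj θ T.obj.as) := by
      let m : (P.mapHomologicalComplex (ComplexShape.up ℤ)).obj T.obj.as ⟶
          (R.mapHomologicalComplex _).obj ((P'.mapHomologicalComplex _).obj ((G'.mapHomologicalComplex _).obj T.obj.as)) :=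
        (NatTrans.mapHomologicalComplex θ (ComplexShape.up ℤ)).app T.obj.as ≫ 𝟙 _ ≫ 𝟙 _
      have e1 : (HomotopyCategory.Plus.ι B').map (G.mapHomotopyCategoryPlus.map k) =
          (HomotopyCategory.quotient B' (ComplexShape.up ℤ)).map ((G.mapHomologicalComplex _).map m) := rfl
      have e2 : (HomotopyCategory.Plus.ι B').map ((DerPlusAdjLib.mapPlusAdj adj).counit.app Y) =
          (HomotopyCategory.quotient B' (ComplexShape.up ℤ)).map
            ((Groth.Agent.DerLib.KInjDerived.mapHomologicalComplexAdj adj (ComplexShape.up ℤ)).counit.app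
              ((P'.mapHomologicalComplex _).obj ((G'.mapHomologicalComplex _).obj T.obj.as))) := by
        refine ((Groth.Agent.DerLib.KInjDerived.mapHomotopyCategoryAdj adj
          (ComplexShape.up ℤ)).map_restrictFullyFaithful_counit_app _ _ _ _ Y).trans ?_
        simp only [Iso.refl_inv, NatTrans.id_app]
        erw [CategoryTheory.Functor.map_id, Category.id_comp, Category.id_comp]
        rfl
      rw [Functor.map_comp, e1, e2]
      rw [← Functor.map_comp]
      congr 1
      ext n
      simp [m, kappa, Adjunction.homEquiv_counit, Groth.Agent.DerLib.KInjDerived.mapHomologicalComplexAdj]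
    have hm : HomotopyCategory.Plus.quasiIso B' (K0 ≫ P'.mapHomotopyCategoryPlus.map jH) := by
      show HomotopyCategory.quasiIso B' (ComplexShape.up ℤ)
        ((HomotopyCategory.Plus.ι B').map (K0 ≫ P'.mapHomotopyCategoryPlus.map jH))
      rw [Functor.map_comp, hq]
      show HomotopyCategory.quasiIso B' (ComplexShape.up ℤ)
        ((HomotopyCategory.quotient B' (ComplexShape.up ℤ)).map (kappa adj θ T.obj.as) ≫
          (HomotopyCategory.quotient B' (ComplexShape.up ℤ)).map ((P'.mapHomologicalComplex _).map j))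
      rw [← Functor.map_comp]
      exact (HomotopyCategory.quotient_map_mem_quasiIso_iff _).2 ((HomologicalComplex.mem_quasiIso_iff _).2 h)
    haveI : IsIso (DerivedCategory.Plus.Qh.map (K0 ≫ P'.mapHomotopyCategoryPlus.map jH)) :=
      Localization.inverts DerivedCategory.Plus.Qh (HomotopyCategory.Plus.quasiIso B') _ hm
    haveI : IsIso ((DerivedCategory.Plus.Qh.map K0 ≫
        P'.rightDerivedFunctorPlusUnit.app (G'.mapHomotopyCategoryPlus.obj T)) ≫
        P'.rightDerivedFunctorPlus.map (DerivedCategory.Plus.Qh.map jH)) := by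
      have w := P'.rightDerivedFunctorPlusUnit.naturality jH
      erw [Category.assoc, ← w, ← Category.assoc, ← Functor.map_comp]
      exact @IsIso.comp_isIso _ _ _ _ _ _ _ ‹_› hL
    exact IsIso.of_isIso_comp_right _ (P'.rightDerivedFunctorPlus.map (DerivedCategory.Plus.Qh.map jH))
  haveI hG' : IsIso (P'.rightDerivedFunctorPlus.map (G'.rightDerivedFunctorPlusUnit.app T)) := by
    haveI : IsIso (G'.rightDerivedFunctorPlusUnit.app T) :=
      Iso.isIso_hom ((asIso G'.rightDerivedFunctorPlusUnit).app T)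
    exact Functor.map_isIso _ _
  have key : G.rightDerivedFunctorPlus.map (P.rightDerivedFunctorPlusUnit.app T) ≫
      (Dc.homEquiv _ _).symm ((EtSix.rPlusDesc₃ θ).app (DerivedCategory.Plus.Qh.obj T)) =
      e.hom.app (P.mapHomotopyCategoryPlus.obj T) ≫
        DerivedCategory.Plus.Qh.map (G.mapHomotopyCategoryPlus.map k ≫ (DerPlusAdjLib.mapPlusAdj adj).counit.app Y) ≫
          X := by
    refine (Dc.homEquiv_naturality_left_symm _ _).symm.trans ?_
    erw [hd]
    rw [Adjunction.homEquiv_counit, Functor.map_comp, Functor.map_comp]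
    erw [Category.assoc, Category.assoc, Dc.counit.naturality X, reassoc_of% hε]
    erw [reassoc_of% (e.hom.naturality k)]
    simp only [Functor.map_comp, Category.assoc, Functor.id_map, X]
  haveI : IsIso (G.rightDerivedFunctorPlus.map (P.rightDerivedFunctorPlusUnit.app T) ≫
      (Dc.homEquiv _ _).symm ((EtSix.rPlusDesc₃ θ).app (DerivedCategory.Plus.Qh.obj T))) := by
    rw [key]
    haveI h3 : IsIso (DerivedCategory.Plus.Qh.map K0 ≫ X) := by
      show IsIso (DerivedCategory.Plus.Qh.map K0 ≫ _ ≫ _)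
      rw [← Category.assoc]
      exact @IsIso.comp_isIso _ _ _ _ _ _ _ hK hG'
    exact @IsIso.comp_isIso _ _ _ _ _ _ _ inferInstance h3
  have h2 := IsIso.of_isIso_comp_left (G.rightDerivedFunctorPlus.map (P.rightDerivedFunctorPlusUnit.app T))
    ((Dc.homEquiv _ _).symm ((EtSix.rPlusDesc₃ θ).app (DerivedCategory.Plus.Qh.obj T)))
  exact @IsIso.comp_isIso _ _ _ _ _ _ _ (Iso.isIso_hom r) h2

end BcPlusLib

end
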